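import Mathlib
import Groth.Prelude
import Groth.Agent.Lib.Helper1.RegFib3
import Groth.Agent.Lib.Helper1.FibreFree
import Groth.Agent.Lib.Helper1.LimFlat4

/-!
# A fibrewise non-zero-divisor on a flat finitely presented module is a non-zero-divisor (S19195)
-/

set_option autoImplicit false
universe u

namespace Groth.Agent.H8.RegFibS1

open TensorProduct

variable (A B M : Type u) [CommRing A] [CommRing B] [Algebra A B]
    [Algebra.FinitePresentation A B] [AddCommGroup M] [Module B M] [Module A M]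
    [IsScalarTower A B M] [Module.FinitePresentation B M] [Module.Flat A M]

/-- fibrewise regular ⟹ regular, for flat finitely presented modules. -/
theorem isSMulRegular_of_fibrewise (a : B)
    (hfibre : ∀ (p : Ideal A) [p.IsPrime] (ξ : M ⊗[A] p.ResidueField), a • ξ = 0 → ξ = 0) :
    IsSMulRegular M a := by
  have key : ∀ m : M, a • m = 0 → m = 0 := by
    intro m hm
    by_contra hne
    let J : Ideal B := LinearMap.ker (LinearMap.toSpanSingleton B M m)
    have hJ : J ≠ ⊤ := by
      intro h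
      have h1 : (1 : B) ∈ J := h ▸ Submodule.mem_top
      rw [LinearMap.mem_ker, LinearMap.toSpanSingleton_apply, one_smul] at h1
      exact hne h1
    obtain ⟨q, hqmax, hJq⟩ := Ideal.exists_le_maximal J hJ
    haveI : q.IsPrime := hqmax.isPrime
    have h0 : ((⊥ : Ideal B) • (⊤ : Submodule B M)) = ⊥ := Submodule.bot_smul _
    haveI : Module.Flat A (LocalizedModule q.primeCompl M) :=
      Groth.Agent.H1.FibreFree.flat_localizedModule_of_flat q.primeCompl
    have hflat : Module.Flat A (LocalizedModule q.primeCompl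
        (M ⧸ ((⊥ : Ideal B) • ⊤ : Submodule B M))) :=
      Groth.Agent.H1.LimFlat.flat_localizedModule_congr q.primeCompl
        (Submodule.quotEquivOfEqBot _ h0).symm
    have hstep := (Groth.Agent.H1.RegFib.step M q (⊥ : Ideal B) Submodule.fg_bot a hflat (by
      rintro ξ ⟨σ, hσ, hξ⟩
      rw [Submodule.bot_smul, Submodule.mem_bot] at hξ
      refine ⟨σ, hσ, ?_⟩
      rw [Submodule.bot_smul, Submodule.mem_bot]
      apply hfibre
      rw [smul_comm]
      exact hξ)).1
    obtain ⟨τ, hτ, hτm⟩ := hstep m ⟨1, q.primeCompl.one_mem, by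
      rw [one_smul, hm]
      exact Submodule.zero_mem _⟩
    rw [h0, Submodule.mem_bot] at hτm
    exact hτ (hJq (by
      show τ ∈ LinearMap.ker (LinearMap.toSpanSingleton B M m)
      rw [LinearMap.mem_ker, LinearMap.toSpanSingleton_apply]
      exact hτm))
  intro m₁ m₂ h
  have h1 : a • (m₁ - m₂) = 0 := by
    rw [smul_sub]
    exact sub_eq_zero.mpr h
  exact sub_eq_zero.mp (key _ h1)

theorem main
    (hS1 : ∀ (p : Ideal A) [p.IsPrime],
      associatedPrimes (B ⊗[A] p.ResidueField) ((B ⊗[A] p.ResidueField) ⊗[B] M) ⊆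
        (Module.annihilator (B ⊗[A] p.ResidueField) ((B ⊗[A] p.ResidueField) ⊗[B] M)).minimalPrimes)
    (a : B)
    (ha : ∀ (p : Ideal A) [p.IsPrime],
      ∀ P ∈ (Module.annihilator (B ⊗[A] p.ResidueField) ((B ⊗[A] p.ResidueField) ⊗[B] M)).minimalPrimes,
        a ⊗ₜ[A] (1 : p.ResidueField) ∉ P) :
    IsSMulRegular M a := by
  apply isSMulRegular_of_fibrewise A B M a
  intro p _ ξ hξ
  -- the fibre ring is Noetherian
  haveI : IsNoetherianRing (p.ResidueField ⊗[A] B) :=
    Algebra.FiniteType.isNoetherianRing p.ResidueField _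
  haveI : IsNoetherianRing (B ⊗[A] p.ResidueField) :=
    isNoetherianRing_of_ringEquiv _
      (Algebra.TensorProduct.comm A p.ResidueField B).toRingEquiv
  -- `a ⊗ 1` is regular on the fibre module
  have hreg : IsSMulRegular ((B ⊗[A] p.ResidueField) ⊗[B] M) (a ⊗ₜ[A] (1 : p.ResidueField)) := by
    by_contra hnr
    have h1 : (a ⊗ₜ[A] (1 : p.ResidueField)) ∈
        ({r : B ⊗[A] p.ResidueField | IsSMulRegular ((B ⊗[A] p.ResidueField) ⊗[B] M) r}ᶜ) := hnr
    rw [← biUnion_associatedPrimes_eq_compl_regular (B ⊗[A] p.ResidueField)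
      ((B ⊗[A] p.ResidueField) ⊗[B] M)] at h1
    obtain ⟨P, hP, haP⟩ := Set.mem_iUnion₂.mp h1
    exact ha p P (hS1 p hP) haP
  let e : ((B ⊗[A] p.ResidueField) ⊗[B] M) ≃ₗ[B] M ⊗[A] p.ResidueField :=
    (TensorProduct.comm B (B ⊗[A] p.ResidueField) M).trans
      (TensorProduct.AlgebraTensorModule.cancelBaseChange A B B M p.ResidueField)
  have h2 : (a ⊗ₜ[A] (1 : p.ResidueField)) • e.symm ξ = 0 := by
    have h3 : (a ⊗ₜ[A] (1 : p.ResidueField)) • e.symm ξ = a • e.symm ξ := by
      rw [← algebraMap_smul (B ⊗[A] p.ResidueField) a (e.symm ξ)]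
      rfl
    rw [h3, ← map_smul, hξ, map_zero]
  have h4 : e.symm ξ = 0 :=
    hreg (show (a ⊗ₜ[A] (1 : p.ResidueField)) • e.symm ξ =
      (a ⊗ₜ[A] (1 : p.ResidueField)) • 0 by rw [h2, smul_zero])
  exact e.symm.map_eq_zero_iff.mp h4

end Groth.Agent.H8.RegFibS1
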